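import Groth.Agent.FlatSyz5.Colim
import Groth.Agent.DirColim.Basic

/-! # Flatness at a stage of a colimit of rings without functoriality assumptions -/

set_option autoImplicit false
universe u

open TensorProduct

namespace Groth.Agent.SyntLim
open Groth.Agent.FlatSyz5 FlatModel FlatStrat MvPolynomial

/-- Flatness at the colimit gives flatness at a stage. -/
theorem exists_flat_stage {A₀ : Type u} [CommRing A₀]
    {ι : Type u} (G : ι → Type u) [∀ i, CommRing (G i)] [∀ i, Algebra A₀ (G i)]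
    (A : Type u) [CommRing A] [Algebra A₀ A] {gA : ∀ i, G i →ₐ[A₀] A} (hG : DirColim.IsColim gA)
    {B₀ : Type u} [CommRing B₀] [Algebra A₀ B₀] [Algebra.FinitePresentation A₀ B₀]
    (M₀ : Type u) [AddCommGroup M₀] [Module B₀ M₀] [Module A₀ M₀] [IsScalarTower A₀ B₀ M₀]
    [Module.FinitePresentation B₀ M₀] (hflat : Module.Flat A (A ⊗[A₀] M₀)) :
    ∃ i : ι, Module.Flat (G i) (G i ⊗[A₀] M₀) := by
  classical
  obtain ⟨n, φ, hφ, hkerφ⟩ := Algebra.FinitePresentation.out (R := A₀) (A := B₀)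
  let := φ.toRingHom.toAlgebra
  let := Module.compHom M₀ φ.toRingHom
  have : IsScalarTower (MvPolynomial (Fin n) A₀) B₀ M₀ := ⟨fun p s m => mul_smul (φ p) s m⟩
  have : IsScalarTower A₀ (MvPolynomial (Fin n) A₀) M₀ := ⟨fun r p m => by
    show φ (r • p) • m = r • φ p • m
    rw [map_smul, smul_assoc]⟩
  have : Module.FinitePresentation (MvPolynomial (Fin n) A₀) B₀ :=
    Module.finitePresentation_of_surjective (Algebra.linearMap (MvPolynomial (Fin n) A₀) B₀) hφ hkerφ
  have : Module.FinitePresentation (MvPolynomial (Fin n) A₀) M₀ := Module.FinitePresentation.trans _ M₀ B₀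
  obtain ⟨a, π, hπ⟩ := Module.Finite.exists_fin' (MvPolynomial (Fin n) A₀) M₀
  obtain ⟨S, hS⟩ := Module.FinitePresentation.fg_ker π hπ
  let c : Finset A₀ := S.biUnion fun v => Finset.univ.biUnion fun i => (v i).coeffs
  let R₀ : Subalgebra ℤ A₀ := Algebra.adjoin ℤ (c : Set A₀)
  have : Algebra.FiniteType ℤ R₀ := (Subalgebra.fg_iff_finiteType R₀).1 (Subalgebra.fg_adjoin_finset c)
  have : IsNoetherianRing R₀ := Algebra.FiniteType.isNoetherianRing ℤ R₀
  have hGdesc : ∀ v ∈ S, ∃ w : V a n R₀, mapV (algebraMap R₀ A₀) w = v := by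
    intro v hv
    have : ∀ i, ∃ q : MvPolynomial (Fin n) R₀, MvPolynomial.map (algebraMap R₀ A₀) q = v i := fun i =>
      MvPolynomial.mem_range_map_iff_coeffs_subset.2 fun x hx =>
        ⟨⟨x, Algebra.subset_adjoin (Finset.mem_biUnion.2 ⟨v, hv, Finset.mem_biUnion.2 ⟨i, Finset.mem_univ _, hx⟩⟩)⟩, rfl⟩
    choose w hw using this
    exact ⟨w, funext hw⟩
  choose! lv hlv using hGdesc
  let K₀ : Submodule (MvPolynomial (Fin n) R₀) (V a n R₀) := Submodule.span _ (lv '' S)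
  have hker : LinearMap.ker π = KK K₀ A₀ := by
    apply le_antisymm
    · rw [← hS, Submodule.span_le]
      intro v hv
      exact Submodule.subset_span ⟨lv v, Submodule.subset_span ⟨v, hv, rfl⟩, hlv v hv⟩
    · rw [KK, Submodule.span_le]
      rintro _ ⟨w, hw, rfl⟩
      refine Submodule.span_le.2 ?_ (mapV_mem_span (algebraMap R₀ A₀) hw)
      rintro _ ⟨w, ⟨v, hv, rfl⟩, rfl⟩
      rw [hlv v hv]
      exact hS.le (Submodule.subset_span hv)
  let eM : Quot' K₀ A₀ ≃ₗ[A₀] M₀ := (Submodule.quotEquivOfEq _ (LinearMap.ker (π.restrictScalars A₀))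
    (by rw [LinearMap.ker_restrictScalars, hker])).trans ((π.restrictScalars A₀).quotKerEquivOfSurjective hπ)
  obtain ⟨eA⟩ := nonempty_quot_baseChange (R := A₀) (R' := A) K₀
  have hF : FlatC K₀ A := (flatC_iff_flat K₀).2 (by
    haveI := hflat
    haveI : Module.Flat A (Quot' K₀ A) := Module.Flat.of_linearEquiv (eA.symm.trans (eM.baseChange A₀ A _ _))
    exact Module.Flat.of_linearEquiv (Submodule.Quotient.restrictScalarsEquiv A (KK K₀ A)).symm)
  obtain ⟨R₁, hR₁, hR₁F⟩ := exists_fg_flatC K₀ hF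
  have hG₀ : DirColim.IsColim (R := R₀) fun i => (gA i).restrictScalars R₀ :=
    ⟨hG.surj, fun i j => by
      obtain ⟨k, ⟨a, ha⟩, ⟨b, hb⟩⟩ := hG.directed i j
      exact ⟨k, ⟨⟨a.restrictScalars R₀, congrArg (AlgHom.restrictScalars R₀) ha⟩⟩,
        ⟨⟨b.restrictScalars R₀, congrArg (AlgHom.restrictScalars R₀) hb⟩⟩⟩,
    fun i x hx => by
      obtain ⟨j, ⟨a, ha⟩, h⟩ := hG.ker i x hx
      exact ⟨j, ⟨a.restrictScalars R₀, congrArg (AlgHom.restrictScalars R₀) ha⟩, h⟩⟩
  haveI : Algebra.FiniteType R₀ R₁ := (Subalgebra.fg_iff_finiteType R₁).1 hR₁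
  haveI : Algebra.FinitePresentation R₀ R₁ := Algebra.FinitePresentation.of_finiteType.1 inferInstance
  obtain ⟨j, ψ, -⟩ := hG₀.exists_lift R₁.val
  letI halg : Algebra R₁ (G j) := ψ.toRingHom.toAlgebra
  haveI htow : IsScalarTower R₀ R₁ (G j) := IsScalarTower.of_algebraMap_eq fun r => (ψ.commutes r).symm
  refine ⟨j, ?_⟩
  haveI : Module.Flat R₁ (Quot' K₀ R₁) :=
    haveI := (flatC_iff_flat K₀).1 hR₁F
    Module.Flat.of_linearEquiv (Submodule.Quotient.restrictScalarsEquiv R₁ (KK K₀ R₁))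
  obtain ⟨e₁⟩ := nonempty_quot_baseChange (R := R₁) (R' := G j) K₀
  obtain ⟨e₂⟩ := nonempty_quot_baseChange (R := A₀) (R' := G j) K₀
  exact Module.Flat.of_linearEquiv ((eM.symm.baseChange A₀ (G j) _ _).trans (e₂.trans e₁.symm))

end Groth.Agent.SyntLim
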