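import Mathlib
import Groth.Agent.Synt29.SyntomicAt
import Groth.Agent.Synt29.Descent
import Groth.Agent.KRegLib.SyntBC

/-! # A flat algebra is syntomic near the image of a syntomic base change -/

set_option autoImplicit false
set_option linter.style.haveILetI false
set_option backward.isDefEq.respectTransparency.types false

universe u

open TensorProduct

namespace Groth.Agent.SyntLim

/-- If `A → B` is flat of finite presentation and becomes syntomic after `A → A'`, then it is
syntomic near every prime in the image of the base change. -/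
theorem exists_syntomic_away_of_baseChange {A A' B : Type u} [CommRing A] [CommRing A'] [CommRing B]
    [Algebra A A'] [Algebra A B] [Algebra.FinitePresentation A B] [Module.Flat A B]
    (h : Synt.IsSyntomic A' (A' ⊗[A] B)) (P : Ideal (A' ⊗[A] B)) [hP : P.IsPrime] :
    ∃ g : B, (1 : A') ⊗ₜ[A] g ∉ P ∧ Synt.IsSyntomic A (Localization.Away g) := by
  let B' := A' ⊗[A] B
  let p : PrimeSpectrum A' := ⟨P.comap (algebraMap A' B'), Ideal.comap_isPrime _ _⟩
  let p₀ : PrimeSpectrum A := ⟨p.asIdeal.comap (algebraMap A A'), inferInstance⟩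
  obtain ⟨Q', hQ'⟩ : ∃ Q' : PrimeSpectrum (p.asIdeal.Fiber B'),
      Q'.asIdeal.comap (Algebra.TensorProduct.includeRight : B' →ₐ[A'] p.asIdeal.Fiber B') = P := by
    have hPp : (⟨P, hP⟩ : PrimeSpectrum B') ∈ PrimeSpectrum.comap (algebraMap A' B') ⁻¹' {p} := rfl
    refine ⟨PrimeSpectrum.preimageEquivFiber A' B' p ⟨_, hPp⟩, ?_⟩
    exact congr_arg (fun z => z.1.asIdeal)
      ((PrimeSpectrum.preimageEquivFiber A' B' p).symm_apply_apply ⟨_, hPp⟩)
  let k := p₀.asIdeal.ResidueField
  let L := p.asIdeal.ResidueField
  let F := p₀.asIdeal.Fiber B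
  let F' := p.asIdeal.Fiber B'
  letI : Algebra k L := (Ideal.ResidueField.map p₀.asIdeal p.asIdeal (algebraMap A A') rfl).toAlgebra
  haveI : IsScalarTower A k L := IsScalarTower.of_algebraMap_eq fun x => by
    show algebraMap A L x = Ideal.ResidueField.map p₀.asIdeal p.asIdeal (algebraMap A A') rfl (algebraMap A k x)
    rw [Ideal.ResidueField.map_algebraMap, ← IsScalarTower.algebraMap_apply]
  letI : Algebra B B' := Algebra.TensorProduct.rightAlgebra
  letI : Algebra B F := Algebra.TensorProduct.rightAlgebra
  letI : Algebra B' F' := Algebra.TensorProduct.rightAlgebra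
  haveI : IsScalarTower k L F' := inferInstance
  letI : Algebra B F' := ((algebraMap B' F').comp (algebraMap B B')).toAlgebra
  haveI : IsScalarTower B B' F' := IsScalarTower.of_algebraMap_eq fun _ => rfl
  haveI : IsScalarTower A L F' := inferInstance
  haveI : IsScalarTower A A' F' := inferInstance
  haveI : IsScalarTower A B F' := IsScalarTower.of_algebraMap_eq fun x => by
    show _ = algebraMap B' F' (algebraMap B B' (algebraMap A B x))
    rw [← IsScalarTower.algebraMap_apply A B B', IsScalarTower.algebraMap_apply A A' B',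
      ← IsScalarTower.algebraMap_apply A' B' F', ← IsScalarTower.algebraMap_apply A A' F']
  haveI : IsScalarTower A k F' := inferInstance
  let φ : F →ₐ[A] F' := Algebra.TensorProduct.lift (IsScalarTower.toAlgHom A k F') (IsScalarTower.toAlgHom A B F')
    (fun _ _ => Commute.all _ _)
  letI : Algebra F F' := φ.toRingHom.toAlgebra
  haveI : IsScalarTower k F F' := IsScalarTower.of_algebraMap_eq fun x => by
    show algebraMap k F' x = φ (x ⊗ₜ[A] (1 : B))
    rw [Algebra.TensorProduct.lift_tmul, map_one, mul_one]
    rfl
  haveI : IsScalarTower B F F' := IsScalarTower.of_algebraMap_eq fun x => by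
    show algebraMap B F' x = φ ((1 : k) ⊗ₜ[A] x)
    rw [Algebra.TensorProduct.lift_tmul, map_one, one_mul]
    rfl
  haveI : Algebra.IsPushout k L F F' := KRegLib.isPushout_fiber (A := A) (A' := A') (B := B) (B' := B')
  let Q : Ideal F := Q'.asIdeal.comap (algebraMap F F')
  haveI : Q.IsPrime := Ideal.comap_isPrime _ _
  haveI : Algebra.FiniteType k F := inferInstance
  have hCI : Synt.IsCIOver k (Localization.AtPrime Q) :=
    (Synt29.isCIOver_atPrime_iff_of_isPushout (k := k) (L := L) Q'.asIdeal Q rfl).1
      (Synt29.isCIOver_atPrime_of_isLCIOver (h.2.2 p) Q')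
  let q : Ideal B := P.comap (algebraMap B B')
  haveI : q.IsPrime := Ideal.comap_isPrime _ _
  have hQ : Q.comap (Algebra.TensorProduct.includeRight : B →ₐ[A] F) = q := by
    refine Eq.trans ?_ (congrArg (Ideal.comap (algebraMap B B')) hQ')
    ext b
    show algebraMap F F' (algebraMap B F b) ∈ Q'.asIdeal ↔ algebraMap B' F' (algebraMap B B' b) ∈ Q'.asIdeal
    rw [← IsScalarTower.algebraMap_apply B F F', ← IsScalarTower.algebraMap_apply B B' F']
  have hp : q.comap (algebraMap A B) = p₀.asIdeal := by
    show (P.comap (algebraMap B B')).comap (algebraMap A B) = (P.comap (algebraMap A' B')).comap (algebraMap A A')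
    rw [Ideal.comap_comap, Ideal.comap_comap, ← IsScalarTower.algebraMap_eq, ← IsScalarTower.algebraMap_eq]
  haveI : Algebra.FinitePresentation B (Localization.Away (1 : B)) := IsLocalization.Away.finitePresentation (1 : B)
  haveI : Algebra.FinitePresentation A (Localization.Away (1 : B)) := Algebra.FinitePresentation.trans A B _
  haveI : Module.Flat B (Localization.AtPrime q) := IsLocalization.flat _ q.primeCompl
  have hfl : Module.Flat A (Localization.AtPrime q) := Module.Flat.trans A B _
  obtain ⟨g, hg, N, M, G, hG, ⟨e⟩⟩ :=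
    Synt29.exists_syntomic_away_iff p₀.asIdeal q Q hQ hp (1 : B) (Ideal.one_notMem q) hfl hCI
  exact ⟨g, hg, Synt29.isSyntomic_of_algEquiv e (Synt29.isSyntomic_relGCIRing hG)⟩

end Groth.Agent.SyntLim
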