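import Mathlib
import Groth.Agent.SyntLim.Nhd
import Groth.Agent.DirColim.Basic
import Groth.Agent.SyntLim.FlatStage

/-! # Syntomicity descends to a stage of a directed colimit of rings -/

set_option autoImplicit false
set_option linter.style.haveILetI false
set_option backward.isDefEq.respectTransparency.types false

universe u

open TensorProduct

namespace Groth.Agent.SyntLim

/-- Base change of a syntomic localization. -/
theorem isSyntomic_away_tmul {R R' S : Type u} [CommRing R] [CommRing R'] [CommRing S] [Algebra R R']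
    [Algebra R S] (x : S) (h : Synt.IsSyntomic R (Localization.Away x)) :
    Synt.IsSyntomic R' (Localization.Away ((1 : R') ⊗ₜ[R] x)) := by
  let S' := R' ⊗[R] S
  let Sx := Localization.Away x
  let y : S' := (1 : R') ⊗ₜ[R] x
  let T := Localization.Away y
  letI : Algebra S S' := Algebra.TensorProduct.rightAlgebra
  haveI : IsScalarTower S S' T := inferInstance
  have hu : IsUnit (algebraMap S T x) := IsLocalization.Away.algebraMap_isUnit y
  letI : Algebra Sx T := (IsLocalization.Away.lift (S := Sx) x hu).toAlgebra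
  haveI : IsScalarTower S Sx T := IsScalarTower.of_algebraMap_eq fun z =>
    (IsLocalization.Away.lift_eq x hu z).symm
  haveI : IsScalarTower R S' T := inferInstance
  haveI : IsScalarTower R S T := IsScalarTower.of_algebraMap_eq fun z => by
    rw [IsScalarTower.algebraMap_apply R S' T, IsScalarTower.algebraMap_apply R S S',
      ← IsScalarTower.algebraMap_apply S S' T]
  haveI : IsScalarTower R Sx T := IsScalarTower.of_algebraMap_eq fun z => by
    rw [IsScalarTower.algebraMap_apply R S T, IsScalarTower.algebraMap_apply S Sx T,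
      ← IsScalarTower.algebraMap_apply R S Sx]
  haveI : IsLocalization (Algebra.algebraMapSubmonoid S' (Submonoid.powers x)) T := by
    rw [Algebra.algebraMapSubmonoid_powers]
    exact inferInstanceAs (IsLocalization.Away y (Localization.Away y))
  haveI : Algebra.IsPushout S S' Sx T := Algebra.isPushout_of_isLocalization (Submonoid.powers x) Sx S' T
  haveI : Algebra.IsPushout S Sx S' T := Algebra.IsPushout.symm inferInstance
  haveI : Algebra.IsPushout R S R' S' := Algebra.IsPushout.symm inferInstance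
  haveI : Algebra.IsPushout R Sx R' T :=
    (Algebra.IsPushout.comp_iff (R := R) (S := S) (R' := R') (S' := S') (T := Sx) (T' := T)).2 inferInstance
  haveI : Algebra.IsPushout R R' Sx T := Algebra.IsPushout.symm inferInstance
  exact Synt29.isSyntomic_of_algEquiv (Algebra.IsPushout.equiv R R' Sx T) (KRegLib.isSyntomic_tensor h)

/-- Syntomicity of a finitely presented algebra descends to a stage of a directed colimit. -/
theorem exists_syntomic_stage {A₀ : Type u} [CommRing A₀] {ι : Type u} (G : ι → Type u)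
    [∀ i, CommRing (G i)] [∀ i, Algebra A₀ (G i)]
    (A : Type u) [CommRing A] [Algebra A₀ A] {gA : ∀ i, G i →ₐ[A₀] A} (hG : DirColim.IsColim gA)
    (B₀ : Type u) [CommRing B₀] [Algebra A₀ B₀] [Algebra.FinitePresentation A₀ B₀]
    (h : Synt.IsSyntomic A (A ⊗[A₀] B₀)) :
    ∃ i : ι, Synt.IsSyntomic (G i) (G i ⊗[A₀] B₀) := by
  classical
  haveI := h.1
  obtain ⟨i, hfl⟩ := exists_flat_stage G A hG B₀ (B₀ := B₀) inferInstance
  letI : Algebra (G i) A := (gA i).toRingHom.toAlgebra
  haveI : IsScalarTower A₀ (G i) A := IsScalarTower.of_algebraMap_eq fun r => ((gA i).commutes r).symm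
  let S := G i ⊗[A₀] B₀
  let C := A ⊗[A₀] B₀
  haveI : Module.Flat (G i) S := hfl
  let e : A ⊗[G i] S ≃ₐ[A] C := Algebra.TensorProduct.cancelBaseChange A₀ (G i) A A B₀
  have hs : Synt.IsSyntomic A (A ⊗[G i] S) := Synt29.isSyntomic_of_algEquiv e.symm h
  let φ : S →ₐ[A₀] C := Algebra.TensorProduct.map (gA i) (AlgHom.id A₀ B₀)
  have he : ∀ s : S, e ((1 : A) ⊗ₜ s) = φ s := by
    intro s
    induction s using TensorProduct.induction_on with
    | zero => simp
    | tmul r b =>
      show Algebra.TensorProduct.cancelBaseChange A₀ (G i) A A B₀ ((1 : A) ⊗ₜ[G i] (r ⊗ₜ[A₀] b)) = gA i r ⊗ₜ[A₀] b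
      rw [Algebra.TensorProduct.cancelBaseChange_tmul, Algebra.smul_def, mul_one]
      rfl
    | add a b ha hb => rw [TensorProduct.tmul_add, map_add, map_add, ha, hb]
  let good : Set S := {x : S | Synt.IsSyntomic (G i) (Localization.Away x)}
  have htop : Ideal.span (φ '' good) = ⊤ := by
    by_contra hne
    obtain ⟨M, hM, hle⟩ := Ideal.exists_le_maximal _ hne
    haveI : (M.comap e.toRingEquiv.toRingHom).IsPrime := Ideal.comap_isPrime _ _
    obtain ⟨x, hx, hxS⟩ := exists_syntomic_away_of_baseChange hs (M.comap e.toRingEquiv.toRingHom)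
    refine hx (show e ((1 : A) ⊗ₜ x) ∈ M from ?_)
    rw [he]
    exact hle (Ideal.subset_span ⟨x, hxS, rfl⟩)
  obtain ⟨n, cf, y, hy⟩ := Submodule.mem_span_set'.1 ((Ideal.eq_top_iff_one _).1 htop)
  choose x hxg hxy using fun t : Fin n => (y t).2
  obtain ⟨k, cl, hcl⟩ := (hG.tensorRight B₀).surj_fintype cf
  obtain ⟨l, ⟨α⟩, ⟨β⟩⟩ := hG.directed i k
  let mα : S →ₐ[A₀] G l ⊗[A₀] B₀ := Algebra.TensorProduct.map α.1 (AlgHom.id A₀ B₀)
  let mβ : G k ⊗[A₀] B₀ →ₐ[A₀] G l ⊗[A₀] B₀ := Algebra.TensorProduct.map β.1 (AlgHom.id A₀ B₀)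
  let ml : G l ⊗[A₀] B₀ →ₐ[A₀] C := Algebra.TensorProduct.map (gA l) (AlgHom.id A₀ B₀)
  have hα : ∀ s, ml (mα s) = φ s := fun s => by
    refine AlgHom.congr_fun (φ₁ := ml.comp mα) (φ₂ := φ) ?_ s
    rw [← Algebra.TensorProduct.map_comp, AlgHom.id_comp, α.2]
  have hβ : ∀ s, ml (mβ s) = Algebra.TensorProduct.map (gA k) (AlgHom.id A₀ B₀) s := fun s => by
    refine AlgHom.congr_fun (φ₁ := ml.comp mβ) ?_ s
    rw [← Algebra.TensorProduct.map_comp, AlgHom.id_comp, β.2]
  let z : G l ⊗[A₀] B₀ := (∑ t, mβ (cl t) * mα (x t)) - 1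
  have hz : ml z = 0 := by
    rw [map_sub, map_sum, map_one, sub_eq_zero, ← hy]
    refine Finset.sum_congr rfl fun t _ => ?_
    rw [map_mul, hα, hβ, hcl, hxy, smul_eq_mul]
  have hmap : ∀ {a : ι} {T : Type u} [CommRing T] [Algebra A₀ T] (f : G a →ₐ[A₀] T) (w : G a ⊗[A₀] B₀),
      f.toLinearMap.rTensor B₀ w = Algebra.TensorProduct.map f (AlgHom.id A₀ B₀) w := fun f w => rfl
  obtain ⟨m, χ, hχ⟩ := hG.exists_rTensor_eq_zero B₀ l z ((hmap (gA l) z).trans hz)
  let ψ := χ.comp α
  let mψ : S →ₐ[A₀] G m ⊗[A₀] B₀ := Algebra.TensorProduct.map ψ.1 (AlgHom.id A₀ B₀)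
  let mχ : G l ⊗[A₀] B₀ →ₐ[A₀] G m ⊗[A₀] B₀ := Algebra.TensorProduct.map χ.1 (AlgHom.id A₀ B₀)
  have hψ : ∀ s, mχ (mα s) = mψ s := fun s => by
    refine AlgHom.congr_fun (φ₁ := mχ.comp mα) (φ₂ := mψ) ?_ s
    rw [← Algebra.TensorProduct.map_comp, AlgHom.id_comp]
    rfl
  have hone : ∑ t, mχ (mβ (cl t)) * mψ (x t) = 1 := by
    have h0 : mχ z = 0 := (hmap χ.1 z).symm.trans hχ
    rw [map_sub, map_sum, map_one, sub_eq_zero] at h0
    rw [← h0]
    exact Finset.sum_congr rfl fun t _ => by rw [map_mul, hψ]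
  refine ⟨m, ?_⟩
  letI : Algebra (G i) (G m) := ψ.1.toRingHom.toAlgebra
  haveI : IsScalarTower A₀ (G i) (G m) := IsScalarTower.of_algebraMap_eq fun a => (ψ.1.commutes a).symm
  let e' : G m ⊗[G i] S ≃ₐ[G m] G m ⊗[A₀] B₀ := Algebra.TensorProduct.cancelBaseChange A₀ (G i) (G m) (G m) B₀
  have he' : ∀ s : S, e' ((1 : G m) ⊗ₜ s) = mψ s := by
    intro s
    induction s using TensorProduct.induction_on with
    | zero => simp
    | tmul r b =>
      show Algebra.TensorProduct.cancelBaseChange A₀ (G i) (G m) (G m) B₀ ((1 : G m) ⊗ₜ[G i] (r ⊗ₜ[A₀] b)) = ψ.1 r ⊗ₜ[A₀] b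
      rw [Algebra.TensorProduct.cancelBaseChange_tmul, Algebra.smul_def, mul_one]
      rfl
    | add a b ha hb => rw [TensorProduct.tmul_add, map_add, map_add, ha, hb]
  refine Synt29.isSyntomic_of_algEquiv e' ?_
  refine Synt29.isSyntomic_of_span (Set.range fun t => (1 : G m) ⊗ₜ[G i] x t) ?_ ?_
  · refine (Ideal.eq_top_iff_one _).2 ?_
    have h1 : (1 : G m ⊗[G i] S) = ∑ t, e'.symm (mχ (mβ (cl t))) * (1 : G m) ⊗ₜ[G i] x t := by
      apply e'.injective
      rw [map_one, map_sum, ← hone]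
      exact Finset.sum_congr rfl fun t _ => by rw [map_mul, e'.apply_symm_apply, he']
    rw [h1]
    exact Ideal.sum_mem _ fun t _ => Ideal.mul_mem_left _ _ (Ideal.subset_span ⟨t, rfl⟩)
  · rintro _ ⟨t, rfl⟩
    exact isSyntomic_away_tmul (x t) (hxg t)

end Groth.Agent.SyntLim
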