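import Groth.Agent.LimSm.Flat
import Groth.Agent.MorLib.DescendCI
import Groth.Agent.SyntLim.Stage

/-! # Syntomic morphisms descend along limits -/

set_option autoImplicit false
set_option linter.style.haveILetI false
universe u

namespace Groth.Agent.SyntLim

open AlgebraicGeometry CategoryTheory Limits TopologicalSpace TensorProduct Opposite
open Groth.Agent.MorLib

/-- Syntomic morphisms as a morphism property. -/
abbrev P : MorphismProperty Scheme.{u} := fun {X Y : Scheme.{u}} (f : X ⟶ Y) => Synt.IsSyntomicMor f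

instance : HasRingHomProperty P.{u} Synt29.RingHomIsSyntomic := Synt29.hasRingHomProperty_isSyntomicMor

instance : MorphismProperty.IsStableUnderBaseChange P.{u} :=
  HasRingHomProperty.isStableUnderBaseChange KRegLib.syntomic_stableUnderBaseChange

set_option backward.isDefEq.respectTransparency.types false in
/-- Syntomicity for `appTop` of a cartesian square of affine schemes, in algebraic terms. -/
theorem syntomic_iff_tensor {X S T W : Scheme.{u}} [IsAffine X] [IsAffine S] [IsAffine T] [IsAffine W]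
    {fst : W ⟶ X} {snd : W ⟶ T} {f : X ⟶ S} {g : T ⟶ S} (h : IsPullback fst snd f g) :
    letI := f.appTop.hom.toAlgebra
    letI := g.appTop.hom.toAlgebra
    P snd ↔ Synt.IsSyntomic Γ(T, ⊤) (Γ(T, ⊤) ⊗[Γ(S, ⊤)] Γ(X, ⊤)) := by
  letI := f.appTop.hom.toAlgebra
  letI := g.appTop.hom.toAlgebra
  have hp := (isPushout_appTop_of_isPullback h).flip
  have hq := CommRingCat.isPushout_tensorProduct Γ(S, ⊤) Γ(T, ⊤) Γ(X, ⊤)
  let e := hq.isoIsPushout _ _ hp
  have he : CommRingCat.ofHom (Algebra.TensorProduct.includeLeftRingHom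
      (R := Γ(S, ⊤)) (A := Γ(T, ⊤)) (B := Γ(X, ⊤))) ≫ e.hom = snd.appTop :=
    IsPushout.inl_isoIsPushout_hom _ _ hq hp
  rw [HasRingHomProperty.iff_of_isAffine (P := P), ← he, CommRingCat.hom_comp,
    ← Synt29.ringHomIsSyntomic_algebraMap]
  constructor
  · intro hs
    have := KRegLib.syntomic_respectsIso.1 _ e.symm.commRingCatIsoToRingEquiv hs
    have heq : e.symm.commRingCatIsoToRingEquiv.toRingHom.comp (e.hom.hom.comp
        (CommRingCat.ofHom (Algebra.TensorProduct.includeLeftRingHom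
          (R := Γ(S, ⊤)) (A := Γ(T, ⊤)) (B := Γ(X, ⊤)))).hom) =
        algebraMap Γ(T, ⊤) (Γ(T, ⊤) ⊗[Γ(S, ⊤)] Γ(X, ⊤)) :=
      RingHom.ext fun x => congr($(e.hom_inv_id).hom (algebraMap Γ(T, ⊤) (Γ(T, ⊤) ⊗[Γ(S, ⊤)] Γ(X, ⊤)) x))
    exact heq ▸ this
  · intro hs
    exact KRegLib.syntomic_respectsIso.1 _ e.commRingCatIsoToRingEquiv hs

set_option backward.isDefEq.respectTransparency.types false in
/-- Descent of syntomicity: affine case. -/
theorem affineCase_syntomic {I : Type u} [SmallCategory I] [IsCofiltered I] (D : I ⥤ Scheme.{u}) (c : Cone D)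
    (hc : IsLimit c) [∀ {i j : I} (f : i ⟶ j), IsAffineHom (D.map f)] (i : I) [IsAffine (D.obj i)]
    {X₀ : Scheme.{u}} (f₀ : X₀ ⟶ D.obj i) [IsAffine X₀]
    [LocallyOfFinitePresentation f₀] (h : P (pullback.snd f₀ (c.π.app i))) :
    ∃ (j : I) (φ : j ⟶ i), P (pullback.snd f₀ (D.map φ)) := by
  haveI hA : IsAffineHom (c.π.app i) := isAffineHom_π_app D c hc i
  haveI hAi : IsAffine (((Functor.const I).obj c.pt).obj i) :=
    isAffine_of_isAffineHom (c.π.app i)
  haveI : IsAffine c.pt := hAi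
  haveI : ∀ j : Over i, IsAffine (D.obj j.left) := fun j => isAffine_of_isAffineHom (D.map j.hom)
  obtain ⟨α, _, _, _, F, _⟩ := IsFiltered.exists_directed (Over i)ᵒᵖ
  haveI : IsFiltered α := inferInstance
  let E : αᵒᵖ ⥤ Scheme.{u} := F.leftOp ⋙ Over.forget i ⋙ D
  let cE : Cone E := (c.whisker (Over.forget i)).whisker F.leftOp
  haveI : F.leftOp.Initial := inferInstance
  have hcE : IsLimit cE := (Functor.Initial.isLimitWhiskerEquiv F.leftOp (c.whisker (Over.forget i))).symm
    ((Functor.Initial.isLimitWhiskerEquiv (Over.forget i) c).symm hc)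
  haveI : ∀ a : αᵒᵖ, IsAffine (E.obj a) := fun a =>
    inferInstanceAs (IsAffine (D.obj (F.obj a.unop).unop.left))
  haveI : ∀ {a b : αᵒᵖ} (m : a ⟶ b), IsAffineHom (E.map m) := fun m => isAffineHom_of_isAffine _
  letI := f₀.appTop.hom.toAlgebra
  let G : α → Type u := fun a => Γ(D.obj (F.obj a).unop.left, ⊤)
  letI : ∀ a, Algebra Γ(D.obj i, ⊤) (G a) := fun a =>
    (D.map (F.obj a).unop.hom).appTop.hom.toAlgebra
  letI : Algebra Γ(D.obj i, ⊤) Γ(c.pt, ⊤) := (c.π.app i).appTop.hom.toAlgebra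
  letI : ∀ a, Algebra (G a) Γ(c.pt, ⊤) := fun a => (c.π.app (F.obj a).unop.left).appTop.hom.toAlgebra
  haveI : ∀ a, IsScalarTower Γ(D.obj i, ⊤) (G a) Γ(c.pt, ⊤) := fun a =>
    IsScalarTower.of_algebraMap_eq fun x => (Desc.π_map_apply (F.obj a).unop x).symm
  haveI : Algebra.FinitePresentation Γ(D.obj i, ⊤) Γ(X₀, ⊤) :=
    (HasRingHomProperty.iff_of_isAffine (P := @LocallyOfFinitePresentation)).mp ‹_›
  let g : ∀ a b, a ≤ b → G a →ₐ[Γ(D.obj i, ⊤)] G b := fun a b h =>
    { (D.map (F.map (homOfLE h)).unop.left).appTop.hom with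
      commutes' := fun x => Desc.map_map_apply (F.map (homOfLE h)).unop x }
  have hG : DirColim.IsColim (fun a => IsScalarTower.toAlgHom Γ(D.obj i, ⊤) (G a) Γ(c.pt, ⊤)) := by
    refine DirColim.IsColim.of_system g _ (fun a b h => AlgHom.ext fun x => ?_) (fun z => ?_) (fun a x hx => ?_)
    · show (c.π.app (F.obj b).unop.left).appTop ((D.map (F.map (homOfLE h)).unop.left).appTop x) =
        (c.π.app (F.obj a).unop.left).appTop x
      rw [← c.w (F.map (homOfLE h)).unop.left, Scheme.Hom.comp_appTop]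
      rfl
    · obtain ⟨a, y, hy⟩ := exists_appTop_π_eq_of_isAffine_of_isLimit E cE hcE z
      exact ⟨a.unop, y, hy⟩
    · obtain ⟨b, m, hm⟩ := exists_appTop_map_eq_zero_of_isLimit E cE hcE (i := op a) x hx
      refine ⟨b.unop, leOfHom m.unop, ?_⟩
      show (D.map (F.map (homOfLE (leOfHom m.unop))).unop.left).appTop x = 0
      rw [show homOfLE (leOfHom m.unop) = m.unop from Subsingleton.elim _ _]
      exact hm
  haveI hP : IsAffine (pullback f₀ (c.π.app i)) := inferInstance
  obtain ⟨a, ha⟩ := exists_syntomic_stage G Γ(c.pt, ⊤) hG Γ(X₀, ⊤)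
    ((syntomic_iff_tensor (IsPullback.of_hasPullback f₀ (c.π.app i))).mp h)
  let j : Over i := (F.obj a).unop
  haveI : IsAffine (pullback f₀ (D.map j.hom)) := inferInstance
  exact ⟨j.left, j.hom, (syntomic_iff_tensor (IsPullback.of_hasPullback f₀ (D.map j.hom))).mpr ha⟩

/-- Syntomicity descends along limits for morphisms of finite presentation. -/
theorem core_syntomic : Desc.Core P.{u} (@LocallyOfFinitePresentation : MorphismProperty Scheme.{u}) :=
  LimSm.core_of_affineSource P.{u} (@LocallyOfFinitePresentation : MorphismProperty Scheme.{u})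
    (fun j _ f hf => IsZariskiLocalAtSource.comp hf j)
    (fun j _ f hf => haveI := hf; inferInstanceAs (LocallyOfFinitePresentation (j ≫ f)))
    fun I _ _ D c hc hD i hi X₀ f₀ hX hQ h => by
      haveI : ∀ {i j : I} (f : i ⟶ j), IsAffineHom (D.map f) := fun {i j} f => hD i j f
      haveI := hi
      haveI := hX
      haveI : LocallyOfFinitePresentation f₀ := hQ
      exact affineCase_syntomic D c hc i f₀ h

end Groth.Agent.SyntLim
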